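import Mathlib.FieldTheory.Finite.Extension
import Mathlib.RingTheory.Trace.Basic
import Mathlib.RingTheory.Jacobson.Ring
import Mathlib.FieldTheory.IsAlgClosed.AlgebraicClosure
import Mathlib.RingTheory.Localization.Away.Basic
import Mathlib.Combinatorics.Nullstellensatz
import Mathlib.Algebra.MvPolynomial.Funext
import Mathlib.RingTheory.TensorProduct.Maps
import Mathlib.RingTheory.Flat.Basic
import Mathlib.FieldTheory.Galois.Basic
import Mathlib.RingTheory.FiniteStability
import Mathlib.RingTheory.LocalRing.RingHom.Basic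

/-!
Points with values in local rings of a commutative algebraic group which is retract rational: the reduction
map is surjective.  Infinite residue field: two translates of the retract meet in a rational point.  Finite residue
field: the same over two extensions of coprime degrees, and norms.
-/

universe u

open TensorProduct MvPolynomial

namespace Groth.Agent.RetractLift

/-- A natural commutative group law on the points of an algebra. -/
structure Law (k A : Type u) [Field k] [CommRing A] [Algebra k A] where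
  grp : ∀ (B : Type u) [CommRing B] [Algebra k B], CommGroup (A →ₐ[k] B)
  comp_mul : ∀ {B C : Type u} [CommRing B] [Algebra k B] [CommRing C] [Algebra k C] (f : B →ₐ[k] C)
    (x y : A →ₐ[k] B), f.comp ((grp B).mul x y) = (grp C).mul (f.comp x) (f.comp y)

variable {k A : Type u} [Field k] [CommRing A] [Algebra k A]

/-- A nonzero element of a reduced finitely generated algebra over an algebraically closed field does not vanish at
some rational point. -/
theorem exists_point_ne_zero {Ω D : Type u} [Field Ω] [IsAlgClosed Ω] [CommRing D] [IsReduced D] [Algebra Ω D]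
    [Algebra.FiniteType Ω D] {f : D} (hf : f ≠ 0) : ∃ ψ : D →ₐ[Ω] Ω, ψ f ≠ 0 := by
  haveI : IsJacobsonRing D := isJacobsonRing_of_finiteType (A := Ω)
  have h0 : f ∉ (⊥ : Ideal D).jacobson := by
    rw [← Ideal.radical_eq_jacobson, Ideal.mem_radical_iff]
    rintro ⟨n, hn⟩
    exact hf (IsReduced.eq_zero f ⟨n, hn⟩)
  obtain ⟨M, ⟨-, hM⟩, hfM⟩ : ∃ M : Ideal D, (⊥ ≤ M ∧ M.IsMaximal) ∧ f ∉ M := by
    by_contra h
    push Not at h
    exact h0 (Submodule.mem_sInf.2 fun M hM => h M hM)
  letI : Field (D ⧸ M) := Ideal.Quotient.field M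
  haveI : Algebra.FiniteType Ω (D ⧸ M) := Algebra.FiniteType.of_surjective (Ideal.Quotient.mkₐ Ω M) Ideal.Quotient.mk_surjective
  haveI : Module.Finite Ω (D ⧸ M) := finite_of_finite_type_of_isJacobsonRing Ω (D ⧸ M)
  let e : Ω ≃ₐ[Ω] D ⧸ M := AlgEquiv.ofBijective (Algebra.ofId Ω (D ⧸ M))
    IsAlgClosed.algebraMap_bijective_of_isIntegral
  refine ⟨e.symm.toAlgHom.comp (Ideal.Quotient.mkₐ Ω M), fun h => hfM ?_⟩
  exact Ideal.Quotient.eq_zero_iff_mem.1 (e.symm.injective (h.trans (map_zero _).symm))

section Eval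

variable {n : ℕ} (h : MvPolynomial (Fin n) k)

/-- The point of a principal open of affine space. -/
noncomputable def evalPt {B : Type u} [CommRing B] [Algebra k B] (q : Fin n → B) (hq : IsUnit (aeval q h)) :
    Localization.Away h →ₐ[k] B :=
  IsLocalization.liftAlgHom (M := Submonoid.powers h) (f := aeval q) (fun ⟨y, m, hm⟩ => by
    subst hm
    rw [map_pow]
    exact hq.pow m)

theorem evalPt_algebraMap {B : Type u} [CommRing B] [Algebra k B] (q : Fin n → B) (hq : IsUnit (aeval q h))
    (P : MvPolynomial (Fin n) k) : evalPt h q hq (algebraMap _ _ P) = aeval q P :=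
  IsLocalization.lift_eq _ P

theorem hom_ext_pt {B : Type u} [CommRing B] [Algebra k B] {f g : Localization.Away h →ₐ[k] B}
    (hfg : ∀ i, f (algebraMap (MvPolynomial (Fin n) k) _ (X i)) = g (algebraMap (MvPolynomial (Fin n) k) _ (X i))) :
    f = g :=
  IsLocalization.algHom_ext (Submonoid.powers h) (MvPolynomial.algHom_ext fun i => hfg i)

theorem comp_evalPt {B C : Type u} [CommRing B] [Algebra k B] [CommRing C] [Algebra k C] (f : B →ₐ[k] C)
    (q : Fin n → B) (hq : IsUnit (aeval q h)) (hq' : IsUnit (aeval (fun i => f (q i)) h)) :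
    f.comp (evalPt h q hq) = evalPt h (fun i => f (q i)) hq' :=
  hom_ext_pt h fun i => by simp [evalPt_algebraMap]

theorem exists_eq_evalPt {B : Type u} [CommRing B] [Algebra k B] (g : Localization.Away h →ₐ[k] B) :
    ∃ (q : Fin n → B) (hq : IsUnit (aeval q h)), g = evalPt h q hq := by
  let q : Fin n → B := fun i => g (algebraMap (MvPolynomial (Fin n) k) _ (X i))
  have e : ∀ P, g (algebraMap _ _ P) = aeval q P := fun P => by
    have : (g.comp (IsScalarTower.toAlgHom k (MvPolynomial (Fin n) k) (Localization.Away h))) = aeval q :=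
      MvPolynomial.algHom_ext fun i => by simp [q]
    exact DFunLike.congr_fun this P
  have hq : IsUnit (aeval q h) := e h ▸ (IsLocalization.Away.algebraMap_isUnit h).map g
  exact ⟨q, hq, hom_ext_pt h fun i => by simp [evalPt_algebraMap, q]⟩

end Eval

/-- Points lifted along a map. -/
def Liftable {O B : Type u} [CommRing O] [Algebra k O] [CommRing B] [Algebra k B] (π : O →ₐ[k] B) :
    Set (A →ₐ[k] B) := Set.range fun s => π.comp s

variable (L : Law k A)

/-- Composition as a homomorphism of groups of points. -/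
noncomputable def compHom {B C : Type u} [CommRing B] [Algebra k B] [CommRing C] [Algebra k C] (f : B →ₐ[k] C) :
    @MonoidHom (A →ₐ[k] B) (A →ₐ[k] C) (L.grp B).toMulOne (L.grp C).toMulOne :=
  letI := L.grp B; letI := L.grp C
  MonoidHom.mk' (fun x => f.comp x) (fun x y => L.comp_mul f x y)

section Retract

variable {n : ℕ} {h : MvPolynomial (Fin n) k} {e : A} (β : A →ₐ[k] Localization.Away h)
  (α : Localization.Away h →ₐ[k] Localization.Away e)
  (hαβ : α.comp β = IsScalarTower.toAlgHom k A (Localization.Away e))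

include hαβ in
theorem exists_eq_vPt {B : Type u} [CommRing B] [Algebra k B] (w : A →ₐ[k] B) (hw : IsUnit (w e)) :
    ∃ (q : Fin n → B) (hq : IsUnit (aeval q h)), w = (evalPt h q hq).comp β := by
  let w' : Localization.Away e →ₐ[k] B := IsLocalization.liftAlgHom (M := Submonoid.powers e) (f := w)
    (fun ⟨y, m, hm⟩ => by subst hm; rw [map_pow]; exact hw.pow m)
  obtain ⟨q, hq, hg⟩ := exists_eq_evalPt h (w'.comp α)
  refine ⟨q, hq, ?_⟩
  rw [← hg, AlgHom.comp_assoc, hαβ]
  ext a
  exact (IsLocalization.lift_eq _ a).symm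

theorem liftable_vPt {O B : Type u} [CommRing O] [Algebra k O] [CommRing B] [Algebra k B] (π : O →ₐ[k] B)
    (hs : Function.Surjective π) (hu : ∀ x, IsUnit (π x) → IsUnit x) (q : Fin n → B) (hq : IsUnit (aeval q h)) :
    (evalPt h q hq).comp β ∈ Liftable π := by
  choose r hr using fun i => hs (q i)
  obtain rfl : q = fun i => π (r i) := funext fun i => (hr i).symm
  have hr' : IsUnit (aeval r h) := hu _ (by
    rw [← AlgHom.comp_apply, comp_aeval]
    exact hq)
  refine ⟨(evalPt h r hr').comp β, ?_⟩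
  show π.comp _ = _
  rw [← AlgHom.comp_assoc, comp_evalPt h π r hr' hq]

include hαβ in
/-- The polynomial cutting out the points whose translate lies in the retract. -/
theorem exists_poly [Algebra.FiniteType k A] (he : e ≠ 0)
    (hdom : ∀ (Ω : Type u) [Field Ω] [IsAlgClosed Ω] [Algebra k Ω], IsDomain (Ω ⊗[k] A))
    {κ : Type u} [Field κ] [Algebra k κ] (u : A →ₐ[k] κ) :
    ∃ P : MvPolynomial (Fin n) κ, P ≠ 0 ∧ ∀ (K : Type u) [Field K] [Algebra κ K] [Algebra k K]
      [IsScalarTower k κ K] (q : Fin n → K), aeval q P ≠ 0 → ∃ hq : IsUnit (aeval q h),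
        IsUnit ((L.grp K).mul ((IsScalarTower.toAlgHom k κ K).comp u) ((evalPt h q hq).comp β) e) := by
  let hb : MvPolynomial (Fin n) κ := MvPolynomial.map (algebraMap k κ) h
  let Rl := Localization.Away hb
  let gen : Fin n → Rl := fun i => algebraMap (MvPolynomial (Fin n) κ) Rl (X i)
  have hgen : ∀ Q : MvPolynomial (Fin n) k,
      aeval gen Q = algebraMap (MvPolynomial (Fin n) κ) Rl (MvPolynomial.map (algebraMap k κ) Q) := fun Q => by
    induction Q using MvPolynomial.induction_on with
    | C c => simp [IsScalarTower.algebraMap_apply k κ Rl, IsScalarTower.algebraMap_apply κ (MvPolynomial (Fin n) κ) Rl]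
    | add p q hp hq => simp [hp, hq]
    | mul_X p i hp => simp [hp, gen]
  have hhb : IsUnit (aeval gen h) := hgen h ▸ IsLocalization.Away.algebraMap_isUnit hb
  let wgen : A →ₐ[k] Rl := (L.grp Rl).mul ((IsScalarTower.toAlgHom k κ Rl).comp u) ((evalPt h gen hhb).comp β)
  obtain ⟨⟨num, ⟨_, m, rfl⟩⟩, hnum⟩ := IsLocalization.surj (Submonoid.powers hb) (wgen e)
  simp only at hnum
  -- evaluation of the generic point
  have key : ∀ (K : Type u) [Field K] [Algebra κ K] [Algebra k K] [IsScalarTower k κ K] (q : Fin n → K)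
      (hq : IsUnit (aeval q h)),
      (L.grp K).mul ((IsScalarTower.toAlgHom k κ K).comp u) ((evalPt h q hq).comp β) e * aeval q h ^ m =
        aeval q num := by
    intro K _ _ _ _ q hq
    have hqb : aeval q hb = aeval q h := aeval_map_algebraMap κ q h
    let ψ' : Rl →ₐ[κ] K := IsLocalization.liftAlgHom (M := Submonoid.powers hb) (f := aeval q)
      (fun ⟨y, j, hj⟩ => by subst hj; rw [map_pow, hqb]; exact hq.pow j)
    have hψ' : ∀ Q, ψ' (algebraMap _ Rl Q) = aeval q Q := fun Q => IsLocalization.lift_eq _ Q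
    let ψ : Rl →ₐ[k] K := ψ'.restrictScalars k
    have h1 : ψ.comp ((IsScalarTower.toAlgHom k κ Rl).comp u) = (IsScalarTower.toAlgHom k κ K).comp u := by
      ext a
      exact ψ'.commutes (u a)
    have hψq : ∀ i, ψ (gen i) = q i := fun i => (hψ' (X i)).trans (aeval_X _ _)
    have h2 : ψ.comp ((evalPt h gen hhb).comp β) = (evalPt h q hq).comp β := by
      rw [← AlgHom.comp_assoc]
      congr 1
      exact hom_ext_pt h fun i => by simp [evalPt_algebraMap, hψq]
    have h3 : ψ (wgen e) = (L.grp K).mul ((IsScalarTower.toAlgHom k κ K).comp u) ((evalPt h q hq).comp β) e := by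
      rw [← AlgHom.comp_apply, L.comp_mul, h1, h2]
    have h4 := congrArg ψ hnum
    rw [map_mul, h3] at h4
    rw [← hqb, ← map_pow, ← hψ', ← hψ']
    exact h4
  refine ⟨num * hb, ?_, fun K _ _ _ _ q hq => ?_⟩
  · -- some geometric point is in both translates
    let Ω := AlgebraicClosure κ
    haveI := hdom Ω
    let D := Ω ⊗[k] A
    let univ : A →ₐ[k] D := Algebra.TensorProduct.includeRight
    let ι : κ →ₐ[k] D := (Algebra.TensorProduct.includeLeft : Ω →ₐ[k] D).comp (IsScalarTower.toAlgHom k κ Ω)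
    let f₂ : D := (L.grp D).mul (ι.comp u) univ e
    have hι : ∀ ψ : D →ₐ[Ω] Ω, (ψ.restrictScalars k).comp (ι.comp u) = (IsScalarTower.toAlgHom k κ Ω).comp u := by
      intro ψ
      ext a
      exact ψ.commutes (algebraMap κ Ω (u a))
    have hf₂ : ∀ ψ : D →ₐ[Ω] Ω, ψ f₂ =
        (L.grp Ω).mul ((IsScalarTower.toAlgHom k κ Ω).comp u) ((ψ.restrictScalars k).comp univ) e := fun ψ => by
      show (ψ.restrictScalars k).comp ((L.grp D).mul (ι.comp u) univ) e = _
      rw [L.comp_mul, hι]
    have hf₁0 : univ e ≠ 0 := fun h0 => he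
      (Algebra.TensorProduct.includeRight_injective (RingHom.injective _) (h0.trans (map_zero univ).symm))
    have hf₂0 : f₂ ≠ 0 := by
      obtain ⟨ψ, hψ⟩ := exists_point_ne_zero (Ω := Ω) hf₁0
      letI := L.grp Ω
      let v : A →ₐ[k] Ω := ((IsScalarTower.toAlgHom k κ Ω).comp u)⁻¹ * (ψ.restrictScalars k).comp univ
      let ψ₂ : D →ₐ[Ω] Ω := Algebra.TensorProduct.lift (AlgHom.id Ω Ω) v fun _ _ => Commute.all _ _
      have hv : (ψ₂.restrictScalars k).comp univ = v := by
        ext a
        simp [ψ₂, univ, D]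
      intro h0
      have := hf₂ ψ₂
      rw [h0, map_zero, hv] at this
      refine hψ ?_
      have h5 : (IsScalarTower.toAlgHom k κ Ω).comp u * v = (ψ.restrictScalars k).comp univ := mul_inv_cancel_left _ _
      exact ((DFunLike.congr_fun h5 e).symm.trans this.symm)
    obtain ⟨ψ, hψ⟩ := exists_point_ne_zero (Ω := Ω) (mul_ne_zero hf₁0 hf₂0)
    rw [map_mul, mul_ne_zero_iff] at hψ
    obtain ⟨q, hq, hv⟩ := exists_eq_vPt β α hαβ ((ψ.restrictScalars k).comp univ) (isUnit_iff_ne_zero.mpr hψ.1)
    intro h0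
    have h1 : aeval q num * aeval q hb = 0 := by rw [← map_mul, h0, map_zero]
    rw [← key Ω q hq, aeval_map_algebraMap, mul_eq_zero, mul_eq_zero, ← hv, ← hf₂] at h1
    rcases h1 with (h1 | h1) | h1
    · exact hψ.2 h1
    · exact (hq.pow m).ne_zero h1
    · exact hq.ne_zero h1
  · rw [map_mul, mul_ne_zero_iff, aeval_map_algebraMap] at hq
    refine ⟨isUnit_iff_ne_zero.mpr hq.2, isUnit_iff_ne_zero.mpr fun h0 => hq.1 ?_⟩
    rw [← key K q (isUnit_iff_ne_zero.mpr hq.2), h0, zero_mul]

include hαβ in
/-- A point whose base change is in the difference of two retract points lifts. -/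
theorem liftable_of_translate {O B : Type u} [CommRing O] [Algebra k O] [CommRing B] [Algebra k B] (π : O →ₐ[k] B)
    (hs : Function.Surjective π) (hu : ∀ x, IsUnit (π x) → IsUnit x) (w : A →ₐ[k] B) (q : Fin n → B)
    (hq : IsUnit (aeval q h)) (hw : IsUnit ((L.grp B).mul w ((evalPt h q hq).comp β) e)) :
    w ∈ Liftable π := by
  letI := L.grp B
  letI := L.grp O
  obtain ⟨q', hq', he'⟩ := exists_eq_vPt β α hαβ _ hw
  obtain ⟨s₁, hs₁⟩ := liftable_vPt β π hs hu q' hq'
  obtain ⟨s₂, hs₂⟩ := liftable_vPt β π hs hu q hq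
  refine ⟨s₁ * s₂⁻¹, ?_⟩
  show compHom L π (s₁ * s₂⁻¹) = w
  rw [map_mul, map_inv]
  show π.comp s₁ * (π.comp s₂)⁻¹ = w
  simp only at hs₁ hs₂
  rw [hs₁, hs₂, ← he']
  exact mul_inv_cancel_right w _

end Retract

section Norm

variable {O κ k' : Type u} [CommRing O] [IsLocalRing O] [Algebra k O] [Field κ] [Algebra k κ] [Field k']
  [Algebra k k'] [FiniteDimensional k k'] [IsGalois k k']

/-- The action of the Galois group on the second factor. -/
noncomputable def act (O : Type u) [CommRing O] [Algebra k O] (σ : k' ≃ₐ[k] k') : O ⊗[k] k' →ₐ[k] O ⊗[k] k' :=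
  Algebra.TensorProduct.map (AlgHom.id k O) σ.toAlgHom

theorem act_mul (σ τ : k' ≃ₐ[k] k') (x : O ⊗[k] k') : act O σ (act O τ x) = act O (σ * τ) x := by
  induction x using TensorProduct.induction_on with
  | zero => simp
  | tmul a b => simp [act]
  | add x y hx hy => simp [hx, hy]

theorem mem_range_of_fixed (x : O ⊗[k] k') (hx : ∀ σ, act O σ x = x) :
    x ∈ (Algebra.TensorProduct.includeLeft : O →ₐ[k] O ⊗[k] k').range := by
  obtain ⟨c, hc⟩ := Algebra.trace_surjective k k' 1
  have h1 : ∀ y : O ⊗[k] k', (∑ σ : k' ≃ₐ[k] k', act O σ y) ∈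
      (Algebra.TensorProduct.includeLeft : O →ₐ[k] O ⊗[k] k').range := fun y => by
    induction y using TensorProduct.induction_on with
    | zero => simp
    | tmul a b =>
        simp only [act, Algebra.TensorProduct.map_tmul, AlgHom.id_apply, AlgEquiv.coe_algHom]
        rw [← TensorProduct.tmul_sum, ← trace_eq_sum_automorphisms]
        refine ⟨algebraMap k O (Algebra.trace k k' b) * a, ?_⟩
        show (algebraMap k O (Algebra.trace k k' b) * a) ⊗ₜ[k] (1 : k') = _
        rw [Algebra.algebraMap_eq_smul_one, Algebra.algebraMap_eq_smul_one, smul_one_mul, TensorProduct.smul_tmul]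
    | add y z hy hz =>
        simp only [map_add, Finset.sum_add_distrib]
        exact add_mem hy hz
  have h2 := h1 (x * (1 ⊗ₜ c))
  simp only [map_mul, hx, ← Finset.mul_sum] at h2
  have h3 : (∑ σ : k' ≃ₐ[k] k', act O σ ((1 : O) ⊗ₜ[k] c)) = 1 := by
    simp only [act, Algebra.TensorProduct.map_tmul, map_one, AlgEquiv.coe_algHom]
    rw [← TensorProduct.tmul_sum, ← trace_eq_sum_automorphisms, hc, map_one, Algebra.TensorProduct.one_def]
  rwa [h3, mul_one] at h2

theorem includeLeft_injective' (R : Type u) [CommRing R] [Algebra k R] :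
    Function.Injective (Algebra.TensorProduct.includeLeft : R →ₐ[k] R ⊗[k] k') :=
  Algebra.TensorProduct.includeLeft_injective (S := k) (RingHom.injective _)

variable (π : O →ₐ[k] κ) (hπ : ∀ x, IsUnit (π x) → IsUnit x)

include hπ in
theorem isUnit_of_map (x : O ⊗[k] k') (hx : IsUnit (Algebra.TensorProduct.map π (AlgHom.id k k') x)) :
    IsUnit x := by
  classical
  let N := ∏ σ : k' ≃ₐ[k] k', act O σ x
  have hN : ∀ τ, act O τ N = N := fun τ => by
    simp only [N, map_prod, act_mul]
    exact Fintype.prod_equiv (Equiv.mulLeft τ) _ _ fun σ => rfl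
  obtain ⟨a, ha⟩ := mem_range_of_fixed N hN
  have hc : ∀ σ : k' ≃ₐ[k] k', Algebra.TensorProduct.map π (AlgHom.id k k') (act O σ x) =
      act κ σ (Algebra.TensorProduct.map π (AlgHom.id k k') x) := fun σ => by
    clear hx hN ha N
    induction x using TensorProduct.induction_on with
    | zero => simp
    | tmul a b => simp [act]
    | add x y hx hy => simp [hx, hy]
  have hu : IsUnit (π a) := by
    have h1 : IsUnit (Algebra.TensorProduct.map π (AlgHom.id k k') N) := by
      simp only [N, map_prod, hc, IsUnit.prod_univ_iff]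
      exact fun σ => hx.map _
    have ha' : a ⊗ₜ[k] (1 : k') = N := ha
    rw [← ha', Algebra.TensorProduct.map_tmul, map_one] at h1
    rw [isUnit_iff_ne_zero]
    intro h0
    haveI : Nontrivial (κ ⊗[k] k') := (includeLeft_injective' (k' := k') κ).nontrivial
    rw [h0, TensorProduct.zero_tmul] at h1
    exact not_isUnit_zero h1
  have hNu : IsUnit N :=
    (show (Algebra.TensorProduct.includeLeft : O →ₐ[k] O ⊗[k] k') a = N from ha) ▸ (hπ a hu).map _
  have : IsUnit (act O (1 : k' ≃ₐ[k] k') x) := isUnit_of_dvd_unit (Finset.dvd_prod_of_mem (fun σ : k' ≃ₐ[k] k' => act O σ x) (Finset.mem_univ 1)) hNu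
  have h1 : act O (1 : k' ≃ₐ[k] k') x = x := by
    simp only [act]
    rw [show (1 : k' ≃ₐ[k] k').toAlgHom = AlgHom.id k k' from rfl, Algebra.TensorProduct.map_id]
    rfl
  rwa [h1] at this

/-- The norm of a lift over the extension lifts a power. -/
theorem liftable_pow (u : A →ₐ[k] κ)
    (hu : (Algebra.TensorProduct.includeLeft : κ →ₐ[k] κ ⊗[k] k').comp u ∈
      Liftable (Algebra.TensorProduct.map π (AlgHom.id k k'))) :
    letI := L.grp κ; u ^ Module.finrank k k' ∈ Liftable π := by
  classical
  letI := L.grp κ; letI := L.grp O; letI := L.grp (O ⊗[k] k'); letI := L.grp (κ ⊗[k] k')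
  obtain ⟨s, hs⟩ := hu
  simp only at hs
  let N := ∏ σ : k' ≃ₐ[k] k', compHom L (act O σ) s
  have hN : ∀ τ, compHom L (act O τ) N = N := fun τ => by
    simp only [N, map_prod]
    refine Fintype.prod_equiv (Equiv.mulLeft τ) _ _ fun σ => ?_
    exact AlgHom.ext fun x => act_mul τ σ (s x)
  have hr : ∀ a, N a ∈ (Algebra.TensorProduct.includeLeft : O →ₐ[k] O ⊗[k] k').range := fun a =>
    mem_range_of_fixed _ fun τ => DFunLike.congr_fun (hN τ) a
  let ej := AlgEquiv.ofInjective (Algebra.TensorProduct.includeLeft : O →ₐ[k] O ⊗[k] k') (includeLeft_injective' O)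
  let t : A →ₐ[k] O := ej.symm.toAlgHom.comp (N.codRestrict _ hr)
  have ht : (Algebra.TensorProduct.includeLeft : O →ₐ[k] O ⊗[k] k').comp t = N :=
    AlgHom.ext fun a => congrArg Subtype.val (ej.apply_symm_apply ⟨N a, hr a⟩)
  refine ⟨t, ?_⟩
  have hinj : Function.Injective (compHom L (Algebra.TensorProduct.includeLeft : κ →ₐ[k] κ ⊗[k] k')) :=
    fun x y hxy => AlgHom.ext fun a => includeLeft_injective' κ (DFunLike.congr_fun hxy a)
  refine hinj ?_
  rw [map_pow]
  show Algebra.TensorProduct.includeLeft.comp (π.comp t) = _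
  rw [← AlgHom.comp_assoc, ← Algebra.TensorProduct.map_comp_includeLeft π (AlgHom.id k k'), AlgHom.comp_assoc, ht]
  show compHom L (Algebra.TensorProduct.map π (AlgHom.id k k')) N = _
  rw [map_prod, ← IsGalois.card_aut_eq_finrank k k', Nat.card_eq_fintype_card, ← Finset.card_univ,
    ← Finset.prod_const]
  refine Finset.prod_congr rfl fun σ _ => AlgHom.ext fun a => ?_
  have hs' : Algebra.TensorProduct.map π (AlgHom.id k k') (s a) = u a ⊗ₜ[k] (1 : k') := DFunLike.congr_fun hs a
  show Algebra.TensorProduct.map π (AlgHom.id k k') (act O σ (s a)) = u a ⊗ₜ[k] (1 : k')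
  have hc : ∀ x, Algebra.TensorProduct.map π (AlgHom.id k k') (act O σ x) =
      act κ σ (Algebra.TensorProduct.map π (AlgHom.id k k') x) := fun x => by
    induction x using TensorProduct.induction_on with
    | zero => simp
    | tmul a b => simp [act]
    | add x y hx hy => simp [hx, hy]
  rw [hc, hs']
  simp [act]

end Norm

theorem bijective_mk_of_coprime {κ k' : Type u} [Field κ] [Algebra k κ] [FiniteDimensional k κ] [Field k']
    [Algebra k k'] [FiniteDimensional k k'] (hco : Nat.Coprime (Module.finrank k κ) (Module.finrank k k'))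
    (M : Ideal (κ ⊗[k] k')) [M.IsMaximal] : Function.Bijective (Ideal.Quotient.mkₐ k M) := by
  letI : Field ((κ ⊗[k] k') ⧸ M) := Ideal.Quotient.field M
  let K := (κ ⊗[k] k') ⧸ M
  refine ⟨?_, Ideal.Quotient.mk_surjective⟩
  let i₂ : k' →ₐ[k] K := (Ideal.Quotient.mkₐ k M).comp Algebra.TensorProduct.includeRight
  haveI : Module.Finite k K := Module.Finite.of_surjective (Ideal.Quotient.mkₐ k M).toLinearMap Ideal.Quotient.mk_surjective
  have hd₁ : Module.finrank k κ ∣ Module.finrank k K := by
    exact ⟨_, (Module.finrank_mul_finrank k κ K).symm⟩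
  have hd₂ : Module.finrank k k' ∣ Module.finrank k K := by
    letI := i₂.toRingHom.toAlgebra
    haveI : IsScalarTower k k' K := IsScalarTower.of_algebraMap_eq fun x => (i₂.commutes x).symm
    exact ⟨_, (Module.finrank_mul_finrank k k' K).symm⟩
  have hle : Module.finrank k K ≤ Module.finrank k κ * Module.finrank k k' := by
    rw [← Module.finrank_tensorProduct]
    exact LinearMap.finrank_le_finrank_of_surjective (f := (Ideal.Quotient.mkₐ k M).toLinearMap) Ideal.Quotient.mk_surjective
  have heq : Module.finrank k (κ ⊗[k] k') = Module.finrank k K := by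
    rw [Module.finrank_tensorProduct]
    exact le_antisymm (Nat.le_of_dvd Module.finrank_pos (hco.mul_dvd_of_dvd_of_dvd hd₁ hd₂)) hle
  exact (LinearMap.injective_iff_surjective_of_finrank_eq_finrank heq
    (f := (Ideal.Quotient.mkₐ k M).toLinearMap)).2 Ideal.Quotient.mk_surjective

theorem exists_aeval_ne_zero {κ K : Type u} [Field κ] [Field K] [Finite K] [Algebra κ K] {n : ℕ}
    {P : MvPolynomial (Fin n) κ} (hP : P ≠ 0) (hK : P.totalDegree < Nat.card K) :
    ∃ q : Fin n → K, aeval q P ≠ 0 := by
  classical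
  haveI := Fintype.ofFinite K
  by_contra h
  push Not at h
  refine hP (MvPolynomial.map_injective (algebraMap κ K) (RingHom.injective _) ?_)
  rw [map_zero]
  refine MvPolynomial.eq_zero_of_eval_zero_at_prod_finset _ (fun _ => Finset.univ) (fun i => ?_) fun x _ => ?_
  · rw [Finset.card_univ, ← Nat.card_eq_fintype_card]
    exact lt_of_le_of_lt ((degreeOf_le_totalDegree _ _).trans
      (Finset.sup_mono (MvPolynomial.support_map_subset _ P))) hK
  · rw [← h x, MvPolynomial.aeval_def, MvPolynomial.eval_map]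

include L in
/-- Points of a retract rational commutative group lift along a surjection of a local ring onto a field. -/
theorem exists_lift [Algebra.FiniteType k A]
    (hdom : ∀ (Ω : Type u) [Field Ω] [IsAlgClosed Ω] [Algebra k Ω], IsDomain (Ω ⊗[k] A))
    {n : ℕ} {h : MvPolynomial (Fin n) k} {e : A} (β : A →ₐ[k] Localization.Away h)
    (α : Localization.Away h →ₐ[k] Localization.Away e) (he : e ≠ 0)
    (hαβ : α.comp β = IsScalarTower.toAlgHom k A (Localization.Away e))
    {O κ : Type u} [CommRing O] [IsLocalRing O] [Algebra k O] [Field κ] [Algebra k κ] (π : O →ₐ[k] κ)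
    (hs : Function.Surjective π) (u : A →ₐ[k] κ) : ∃ s : A →ₐ[k] O, π.comp s = u := by
  classical
  have hu : ∀ x, IsUnit (π x) → IsUnit x := fun x hx => by
    haveI : IsLocalHom π.toRingHom := IsLocalHom.of_surjective π.toRingHom hs
    exact IsUnit.of_map π.toRingHom x hx
  obtain ⟨P, hP0, hP⟩ := exists_poly L β α hαβ he hdom u
  rcases finite_or_infinite κ with hfin | hinf
  swap
  · obtain ⟨q, hq⟩ : ∃ q : Fin n → κ, aeval q P ≠ 0 := by
      by_contra hcon
      push Not at hcon
      exact hP0 (MvPolynomial.funext fun x => by simpa using hcon x)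
    obtain ⟨hq', hw⟩ := hP κ q hq
    rw [show (IsScalarTower.toAlgHom k κ κ).comp u = u from rfl] at hw
    exact liftable_of_translate L β α hαβ π hs hu u q hq' hw
  haveI : Finite k := Finite.of_injective (algebraMap k κ) (RingHom.injective _)
  haveI : FiniteDimensional k κ := Module.Finite.of_finite
  obtain ⟨p, hp⟩ := CharP.exists k
  haveI := hp
  haveI : Fact p.Prime := ⟨CharP.char_is_prime k p⟩
  let m := Module.finrank k κ
  obtain ⟨d₁, hd₁, hd₁p⟩ := Nat.exists_infinite_primes (m + P.totalDegree + 1)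
  obtain ⟨d₂, hd₂, hd₂p⟩ := Nat.exists_infinite_primes (d₁ + 1)
  letI := L.grp κ; letI := L.grp O
  have key : ∀ d : ℕ, d.Prime → m + P.totalDegree + 1 ≤ d → ∃ s : A →ₐ[k] O, π.comp s = u ^ d := by
    intro d hdp hd
    haveI : NeZero d := ⟨hdp.ne_zero⟩
    obtain ⟨k', _, _, _, _, hfr⟩ : ∃ (k' : Type u) (_ : Field k') (_ : Algebra k k')
        (_ : FiniteDimensional k k') (_ : IsGalois k k'), Module.finrank k k' = d := by
      let ι : FiniteField.Extension k p d →ₐ[k] AlgebraicClosure k := IsAlgClosed.lift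
      let eι : FiniteField.Extension k p d ≃ₐ[k] ι.fieldRange := AlgEquiv.ofInjectiveField ι
      haveI : FiniteDimensional k ι.fieldRange := Module.Finite.equiv eι.toLinearEquiv
      haveI : Finite ι.fieldRange := Module.finite_of_finite k
      exact ⟨ι.fieldRange, inferInstance, inferInstance, inferInstance, GaloisField.instIsGaloisOfFinite,
        eι.toLinearEquiv.finrank_eq.symm.trans (FiniteField.finrank_extension k p d)⟩
    have hco : Nat.Coprime m (Module.finrank k k') := by
      rw [hfr, Nat.coprime_comm, hdp.coprime_iff_not_dvd]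
      exact fun hdvd => absurd (Nat.le_of_dvd Module.finrank_pos hdvd) (by simp only [m] at hd ⊢; omega)
    haveI : Nontrivial (κ ⊗[k] k') := Module.nontrivial_of_finrank_pos (R := k) (by
      rw [Module.finrank_tensorProduct]; exact Nat.mul_pos Module.finrank_pos Module.finrank_pos)
    obtain ⟨M, hM⟩ := Ideal.exists_maximal (κ ⊗[k] k')
    letI : Field ((κ ⊗[k] k') ⧸ M) := Ideal.Quotient.field M
    let K := (κ ⊗[k] k') ⧸ M
    let θ : κ ⊗[k] k' ≃ₐ[k] K := AlgEquiv.ofBijective (Ideal.Quotient.mkₐ k M) (bijective_mk_of_coprime (k := k) (κ := κ) (k' := k') hco M)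
    haveI : Finite (κ ⊗[k] k') := Module.finite_of_finite k
    haveI : Finite K := Finite.of_equiv _ θ.toEquiv
    have hcard : P.totalDegree < Nat.card K := by
      rw [← Nat.card_congr θ.toEquiv, Module.natCard_eq_pow_finrank (K := k), Module.finrank_tensorProduct, hfr]
      calc P.totalDegree < d := by omega
        _ < 2 ^ d := Nat.lt_two_pow_self
        _ ≤ Nat.card k ^ d := Nat.pow_le_pow_left Finite.one_lt_card d
        _ ≤ Nat.card k ^ (Module.finrank k κ * d) :=
          Nat.pow_le_pow_right Nat.card_pos (Nat.le_mul_of_pos_left d Module.finrank_pos)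
    obtain ⟨q, hq⟩ := exists_aeval_ne_zero (K := K) hP0 hcard
    obtain ⟨hq', hw⟩ := hP K q hq
    let π' : O ⊗[k] k' →ₐ[k] κ ⊗[k] k' := Algebra.TensorProduct.map π (AlgHom.id k k')
    have hs' : Function.Surjective π' := TensorProduct.map_surjective hs Function.surjective_id
    obtain ⟨s, hs2⟩ := liftable_of_translate L β α hαβ (θ.toAlgHom.comp π')
      (θ.surjective.comp hs') (fun x hx => isUnit_of_map (k' := k') π hu x (by simpa [π'] using hx.map θ.symm))
      ((IsScalarTower.toAlgHom k κ K).comp u) q hq' hw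
    have hmem : (Algebra.TensorProduct.includeLeft : κ →ₐ[k] κ ⊗[k] k').comp u ∈ Liftable π' :=
      ⟨s, AlgHom.ext fun a => θ.injective (DFunLike.congr_fun hs2 a)⟩
    have := liftable_pow L π u hmem
    rw [hfr] at this
    exact this
  obtain ⟨s₁, hs₁⟩ := key d₁ hd₁p hd₁
  obtain ⟨s₂, hs₂⟩ := key d₂ hd₂p (by omega)
  have hg : Nat.gcd d₁ d₂ = 1 := (Nat.coprime_primes hd₁p hd₂p).2 (by omega)
  refine ⟨s₁ ^ (Nat.gcdA d₁ d₂) * s₂ ^ (Nat.gcdB d₁ d₂), ?_⟩
  show compHom L π _ = u
  rw [map_mul, map_zpow, map_zpow]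
  show (π.comp s₁) ^ _ * (π.comp s₂) ^ _ = u
  rw [hs₁, hs₂, ← zpow_natCast u d₁, ← zpow_natCast u d₂, ← zpow_mul, ← zpow_mul, ← zpow_add,
    ← Nat.gcd_eq_gcd_ab, hg]
  simp

end Groth.Agent.RetractLift
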