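import Groth.Agent.RetractLift.Basic
import Groth.Agent.GrpFieldLib.RetractScheme
import Groth.Agent.TorusBilin.Central
import Mathlib.AlgebraicGeometry.Morphisms.Finite

/-!
Retract rational tori: lifting of points from the residue field of a local ring.
-/

set_option backward.isDefEq.respectTransparency false
set_option backward.isDefEq.respectTransparency.types false

universe u

open CategoryTheory CategoryTheory.Limits MonoidalCategory CartesianMonoidalCategory MonObj AlgebraicGeometry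
open TensorProduct
open Groth.Agent.GrpSchLib.AffineHopf

namespace Groth.Agent.RetractLift

variable {k : Type u} [Field k]

theorem exists_alg {R B C : Type u} [CommRing R] [CommRing B] [CommRing C] [Algebra R B] [Algebra R C]
    (g : sp R B ⟶ sp R C) : ∃ f : C →ₐ[R] B, g = spMap f := by
  obtain ⟨φ, hφ⟩ := Spec.map_surjective g.left
  have hc : CommRingCat.ofHom (algebraMap R C) ≫ φ = CommRingCat.ofHom (algebraMap R B) := Spec.map_injective <| by
    rw [Spec.map_comp, hφ]
    exact Over.w g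
  refine ⟨⟨φ.hom, fun c => congrArg (fun g => g.hom c) hc⟩, Over.OverMorphism.ext ?_⟩
  show g.left = Spec.map _
  rw [← hφ]
  rfl

theorem spMap_inj {R B C : Type u} [CommRing R] [CommRing B] [CommRing C] [Algebra R B] [Algebra R C]
    {f g : C →ₐ[R] B} (h : spMap f = spMap g) : f = g := by
  have := Spec.map_injective (congrArg (fun g => g.left) h :
    Spec.map (CommRingCat.ofHom f.toRingHom) = Spec.map (CommRingCat.ofHom g.toRingHom))
  exact AlgHom.ext fun x => congrArg (fun g => g.hom x) this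

theorem exists_algEquiv {R B C : Type u} [CommRing R] [CommRing B] [CommRing C] [Algebra R B] [Algebra R C]
    (e : sp R B ≅ sp R C) : Nonempty (C ≃ₐ[R] B) := by
  obtain ⟨f, hf⟩ := exists_alg e.hom
  obtain ⟨g, hg⟩ := exists_alg e.inv
  exact ⟨AlgEquiv.ofAlgHom f g (spMap_inj (by rw [← spMap_comp, ← hf, ← hg, e.hom_inv_id, spMap_id]))
    (spMap_inj (by rw [← spMap_comp, ← hf, ← hg, e.inv_hom_id, spMap_id]))⟩

theorem isTorus_of_finiteEtale {T : Over (Spec (CommRingCat.of k))} [GrpObj T]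
    (hT : ∃ r : ℕ, TwC.Locally (Spec (CommRingCat.of k)) .finiteEtale
      (fun S' g => Red.IsSplitTorusWith (Fin r → ℤ) (Red.bc g T))) : Red.IsTorus T := by
  obtain ⟨r, S', f, hfin, het, hsurj, hloc⟩ := hT
  haveI : Etale f := het
  refine ⟨S', f, inferInstance, hsurj, fun V hV => ?_, fun s' => ?_⟩
  · haveI : IsFinite f := hfin
    refine ⟨f ⁻¹ᵁ V, (hV.preimage f).isCompact, ?_⟩
    exact Set.image_preimage_eq _ hsurj.surj
  · obtain ⟨U, hU, -, hs⟩ := hloc s'
    exact ⟨U, hU, r, hs⟩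

/-- The group law on the points of an affine model of a commutative group. -/
noncomputable def lawOf {T : Over (Spec (CommRingCat.of k))} [GrpObj T] {A : Type u} [CommRing A] [Algebra k A]
    (j : sp k A ≅ T) (hc : ∀ (X : Over (Spec (CommRingCat.of k))) (a b : X ⟶ T), a * b = b * a) : Law k A :=
  let pe : ∀ (B : Type u) [CommRing B] [Algebra k B], (A →ₐ[k] B) ≃ (sp k B ⟶ T) := fun B _ _ =>
    Equiv.ofBijective (fun x => spMap x ≫ j.hom)
      ⟨fun x y h => spMap_inj ((cancel_mono j.hom).1 h), fun g => by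
        obtain ⟨f, hf⟩ := exists_alg (g ≫ j.inv)
        refine ⟨f, ?_⟩
        show spMap f ≫ j.hom = g
        rw [← hf, Category.assoc, j.inv_hom_id, Category.comp_id]⟩
  { grp := fun B _ _ =>
      letI : CommGroup (sp k B ⟶ T) := { (inferInstance : Group (sp k B ⟶ T)) with mul_comm := hc _ }
      (pe B).commGroup
    comp_mul := fun {B C} _ _ _ _ f x y => by
      show f.comp ((pe B).symm (pe B x * pe B y)) = (pe C).symm (pe C (f.comp x) * pe C (f.comp y))
      rw [Equiv.eq_symm_apply]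
      have hp : ∀ z : A →ₐ[k] B, pe C (f.comp z) = spMap f ≫ pe B z := fun z => by
        show spMap (f.comp z) ≫ j.hom = spMap f ≫ spMap z ≫ j.hom
        rw [← spMap_comp, Category.assoc]
      rw [hp, hp, hp, Equiv.apply_symm_apply, MonObj.comp_mul] }

theorem isDomain_tensor {A : Type u} [CommRing A] [Algebra k A] {r : ℕ}
    (E : AlgebraicClosure k ⊗[k] A ≃ₐ[AlgebraicClosure k]
      MonoidAlgebra (AlgebraicClosure k) (Multiplicative (Fin r → ℤ)))
    (Ω : Type u) [Field Ω] [IsAlgClosed Ω] [Algebra k Ω] : IsDomain (Ω ⊗[k] A) := by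
  let ψ : AlgebraicClosure k →ₐ[k] Ω := IsAlgClosed.lift
  letI := ψ.toRingHom.toAlgebra
  haveI : IsScalarTower k (AlgebraicClosure k) Ω := IsScalarTower.of_algebraMap_eq fun x => (ψ.commutes x).symm
  let e : Ω ⊗[k] A ≃ₐ[Ω] MonoidAlgebra Ω (Multiplicative (Fin r → ℤ)) :=
    (Algebra.TensorProduct.cancelBaseChange k (AlgebraicClosure k) Ω Ω A).symm.trans
      ((Algebra.TensorProduct.congr AlgEquiv.refl E).trans
        (MonoidAlgebra.scalarTensorEquiv (AlgebraicClosure k) Ω))
  exact MulEquiv.isDomain (MonoidAlgebra Ω (Multiplicative (Fin r → ℤ))) e.toMulEquiv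

theorem exists_data (T : Over (Spec (CommRingCat.of k))) [GrpObj T]
    (hT : ∃ r : ℕ, TwC.Locally (Spec (CommRingCat.of k)) .finiteEtale
      (fun S' g => Red.IsSplitTorusWith (Fin r → ℤ) (Red.bc g T))) :
    ∃ (A : Type u) (_ : CommRing A) (_ : Algebra k A) (_ : Algebra.FiniteType k A) (_ : sp k A ≅ T),
      ∀ (Ω : Type u) [Field Ω] [IsAlgClosed Ω] [Algebra k Ω], IsDomain (Ω ⊗[k] A) := by
  obtain ⟨A₀, _, _, _, _, _, ⟨j₀⟩⟩ := GrpFieldLib.exists_model hT
  haveI : IsIso j₀.inv.left := ((Over.forget _).mapIso j₀).isIso_inv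
  haveI : IsAffine (sp k A₀).left := isAffine_Spec _
  haveI : IsAffine T.left := IsAffine.of_isIso j₀.inv.left
  obtain ⟨r, ⟨e⟩⟩ := GrpFieldLib.exists_split_algClosure hT
  obtain ⟨A, _, _, ⟨t⟩⟩ := exists_hopf T
  let j : sp k A ≅ T := (Grp.forget _).mapIso t
  obtain ⟨e₀⟩ := exists_algEquiv (j ≪≫ j₀.symm)
  obtain ⟨b⟩ := nonempty_bc_sp (R := k) (AlgebraicClosure k) A
  obtain ⟨E⟩ := GrpFieldLib.nonempty_algEquiv_of_sp (((Grp.forget _).mapIso b).symm ≪≫
    (Over.pullback _).mapIso j ≪≫ e)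
  exact ⟨A, inferInstance, inferInstance, Algebra.FiniteType.equiv inferInstance e₀, j,
    fun Ω _ _ _ => isDomain_tensor E Ω⟩

/-- The retraction in algebraic form. -/
theorem exists_retract {T : Over (Spec (CommRingCat.of k))} {A : Type u} [CommRing A] [Algebra k A]
    (j : sp k A ≅ T) {n : ℕ} (U : T.left.Opens)
    (Y : (Spec (CommRingCat.of (MvPolynomial (Fin n) k))).Opens)
    (a : (U : Scheme.{u}) ⟶ (Y : Scheme.{u})) (b : (Y : Scheme.{u}) ⟶ (U : Scheme.{u}))
    (hne : (U : Set T.left).Nonempty) (hab : a ≫ b = 𝟙 (U : Scheme.{u}))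
    (ha : a ≫ Y.ι ≫ Spec.map (CommRingCat.ofHom (algebraMap k (MvPolynomial (Fin n) k))) = U.ι ≫ T.hom)
    (hb : b ≫ U.ι ≫ T.hom = Y.ι ≫ Spec.map (CommRingCat.ofHom (algebraMap k (MvPolynomial (Fin n) k)))) :
    ∃ (h : MvPolynomial (Fin n) k) (e : A) (β : A →ₐ[k] Localization.Away h)
      (α : Localization.Away h →ₐ[k] Localization.Away e),
      e ≠ 0 ∧ α.comp β = IsScalarTower.toAlgHom k A (Localization.Away e) := by
  obtain ⟨x₀, hx₀⟩ := hne
  let u₀ : (U : Scheme.{u}) := ⟨x₀, hx₀⟩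
  obtain ⟨_, ⟨h, rfl⟩, hy, hY⟩ := PrimeSpectrum.isTopologicalBasis_basic_opens.isOpen_iff.1 Y.isOpen
    ((a ≫ Y.ι).base u₀) (Y.range_ι ▸ ⟨a.base u₀, rfl⟩)
  let W : Set T.left := U.ι.base '' ((a ≫ Y.ι).base ⁻¹' SetLike.coe (PrimeSpectrum.basicOpen h))
  have hW : IsOpen W := U.ι.isOpenEmbedding.isOpenMap _
    ((PrimeSpectrum.basicOpen h).isOpen.preimage (a ≫ Y.ι).continuous)
  obtain ⟨_, ⟨e, rfl⟩, hxe, heW⟩ := PrimeSpectrum.isTopologicalBasis_basic_opens.isOpen_iff.1
    (hW.preimage j.hom.left.continuous) (j.inv.left.base x₀) (by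
      show j.hom.left.base (j.inv.left.base x₀) ∈ W
      rw [← Scheme.Hom.comp_apply, ← Over.comp_left, j.inv_hom_id]
      exact ⟨u₀, hy, rfl⟩)
  have he : e ≠ 0 := fun h0 => by
    subst h0
    have h1 : j.inv.left.base x₀ ∈ SetLike.coe (PrimeSpectrum.basicOpen (0 : A)) := hxe
    exact (PrimeSpectrum.mem_basicOpen _ _).1 h1 (zero_mem _)
  let jP : Spec (CommRingCat.of (Localization.Away h)) ⟶ Spec (CommRingCat.of (MvPolynomial (Fin n) k)) :=
    Spec.map (CommRingCat.ofHom (algebraMap (MvPolynomial (Fin n) k) (Localization.Away h)))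
  haveI : IsOpenImmersion jP := IsOpenImmersion.of_isLocalization h
  haveI : IsOpenImmersion (Spec.map (CommRingCat.ofHom (algebraMap A (Localization.Away e)))) :=
    IsOpenImmersion.of_isLocalization e
  have hjP : Set.range jP.base = SetLike.coe (PrimeSpectrum.basicOpen h) :=
    PrimeSpectrum.localization_away_comap_range (Localization.Away h) h
  let lY : Spec (CommRingCat.of (Localization.Away h)) ⟶ (Y : Scheme.{u}) :=
    IsOpenImmersion.lift Y.ι jP (by rw [Y.range_ι, hjP]; exact hY)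
  let ιA : Spec (CommRingCat.of (Localization.Away e)) ⟶ T.left :=
    Spec.map (CommRingCat.ofHom (algebraMap A (Localization.Away e))) ≫ j.hom.left
  have hιA : ∀ z, ιA.base z ∈ W := fun z => heW (by
    have : (Spec.map (CommRingCat.ofHom (algebraMap A (Localization.Away e)))).base z ∈
        (PrimeSpectrum.basicOpen e : Set (PrimeSpectrum A)) := by
      rw [← PrimeSpectrum.localization_away_comap_range (Localization.Away e) e]
      exact ⟨z, rfl⟩
    exact this)
  let lU : Spec (CommRingCat.of (Localization.Away e)) ⟶ (U : Scheme.{u}) :=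
    IsOpenImmersion.lift U.ι ιA (by
      rintro _ ⟨z, rfl⟩
      obtain ⟨w, -, hw⟩ := hιA z
      exact ⟨w, hw⟩)
  have hlU : lU ≫ U.ι = ιA := IsOpenImmersion.lift_fac _ _ _
  let m : Spec (CommRingCat.of (Localization.Away e)) ⟶ Spec (CommRingCat.of (Localization.Away h)) :=
    IsOpenImmersion.lift jP (lU ≫ a ≫ Y.ι) (by
      rintro _ ⟨z, rfl⟩
      rw [hjP]
      obtain ⟨w, hw, hw'⟩ := hιA z
      have : lU.base z = w := U.ι.isOpenEmbedding.injective (by
        rw [← Scheme.Hom.comp_apply, hlU, hw'])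
      show (a ≫ Y.ι).base (lU.base z) ∈ _
      rw [this]
      exact hw)
  have hm : m ≫ jP = lU ≫ a ≫ Y.ι := IsOpenImmersion.lift_fac _ _ _
  have hlY : lY ≫ Y.ι = jP := IsOpenImmersion.lift_fac _ _ _
  have hmY : m ≫ lY = lU ≫ a := by
    rw [← cancel_mono Y.ι, Category.assoc, hlY, hm, Category.assoc]
  let bT : sp k (Localization.Away h) ⟶ T := Over.homMk (lY ≫ b ≫ U.ι) (by
    show (lY ≫ b ≫ U.ι) ≫ T.hom = Spec.map (CommRingCat.ofHom (algebraMap k (Localization.Away h)))
    rw [Category.assoc, Category.assoc, hb, ← Category.assoc, hlY, ← Spec.map_comp, ← CommRingCat.ofHom_comp,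
      ← IsScalarTower.algebraMap_eq])
  let mT : sp k (Localization.Away e) ⟶ sp k (Localization.Away h) := Over.homMk m (by
    show m ≫ Spec.map (CommRingCat.ofHom (algebraMap k (Localization.Away h))) =
      Spec.map (CommRingCat.ofHom (algebraMap k (Localization.Away e)))
    rw [IsScalarTower.algebraMap_eq k (MvPolynomial (Fin n) k) (Localization.Away h), CommRingCat.ofHom_comp,
      Spec.map_comp, ← Category.assoc, hm, Category.assoc, Category.assoc, ha, ← Category.assoc, hlU, Category.assoc,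
      Over.w j.hom]
    show _ ≫ Spec.map (CommRingCat.ofHom (algebraMap k A)) = _
    rw [← Spec.map_comp, ← CommRingCat.ofHom_comp, ← IsScalarTower.algebraMap_eq])
  obtain ⟨β, hβ⟩ := exists_alg (bT ≫ j.inv)
  obtain ⟨α, hα⟩ := exists_alg mT
  refine ⟨h, e, β, α, he, spMap_inj ?_⟩
  rw [← spMap_comp, ← hα, ← hβ]
  refine Over.OverMorphism.ext ?_
  show m ≫ (lY ≫ b ≫ U.ι) ≫ j.inv.left = Spec.map (CommRingCat.ofHom (algebraMap A (Localization.Away e)))
  rw [Category.assoc, Category.assoc, reassoc_of% hmY, reassoc_of% hab, reassoc_of% hlU]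
  show _ ≫ j.hom.left ≫ j.inv.left = _
  rw [← Over.comp_left, j.hom_inv_id]
  exact Category.comp_id _

end Groth.Agent.RetractLift
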